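import Cfsg.Agent.S0205
import Cfsg.Agent.Lib.BGTypes.CNQuotient
import Cfsg.Agent.Lib.BGTypes.CNMaximal
import Cfsg.Agent.Lib.Cores.FPF
import Cfsg.Agent.Lib.Involutions.BrauerSuzuki
import Cfsg.Agent.Lib.Frobenius.Kernel
import Cfsg.Agent.Lib.NormalPComplement.FixedPointFree
import Cfsg.Agent.Lib.CIT.TISylow

/-!
Groups in which every maximal soluble subgroup `M` carries a normal subgroup `F M` that contains the
centralisers of its non-identity elements and meets its conjugates trivially: the Sylow 2-structure.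
-/

set_option autoImplicit false
set_option linter.style.haveILetI false

open Cfsg
open scoped Pointwise

namespace CfsgLib.FrobSystem

universe u

variable {G : Type u} [Group G]

/-- A maximal soluble subgroup. -/
def MaxSolv (M : Subgroup G) : Prop :=
  Group.IsSolvable M ∧ ∀ M' : Subgroup G, M < M' → ¬ Group.IsSolvable M'

/-- The hypothesis on `F`. -/
def System (F : Subgroup G → Subgroup G) : Prop :=
  ∀ M : Subgroup G, MaxSolv M →
    F M ≤ M ∧ M ≤ Subgroup.normalizer (F M : Set G) ∧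
    (∀ a ∈ M, a ∉ F M → ∀ x ∈ F M, x * a = a * x → x = 1) ∧
    (∀ g : G, g ∉ M → F M ⊓ (MulAut.conj g • F M) = ⊥) ∧
    (F M ≠ ⊥ ∨ IsMulCommutative M)

theorem isSolvable_of_le {H K : Subgroup G} (h : H ≤ K) (hK : Group.IsSolvable K) :
    Group.IsSolvable H :=
  Group.isSolvable_of_isSolvable_injective (f := Subgroup.inclusion h) (Subgroup.inclusion_injective h)

variable {F : Subgroup G → Subgroup G}

theorem System.mem_of_conj (hF : System F) {M : Subgroup G} (hM : MaxSolv M) {x g : G}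
    (hx : x ∈ F M) (hx1 : x ≠ 1) (h : g⁻¹ * x * g ∈ F M) : g ∈ M := by
  by_contra hg
  have h1 : x ∈ F M ⊓ MulAut.conj g • F M := ⟨hx, Frobenius.mem_conj_smul.2 h⟩
  rw [(hF M hM).2.2.2.1 g hg] at h1
  exact hx1 h1

theorem System.cent (hF : System F) {M : Subgroup G} (hM : MaxSolv M) {x : G} (hx : x ∈ F M)
    (hx1 : x ≠ 1) : Subgroup.centralizer ({x} : Set G) ≤ F M := by
  intro g hg
  have hc : g * x = x * g := Subgroup.mem_centralizer_singleton_iff.1 hg
  have hgM : g ∈ M := hF.mem_of_conj hM hx hx1 (by rwa [mul_assoc, ← hc, inv_mul_cancel_left])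
  by_contra hgF
  exact hx1 ((hF M hM).2.2.1 g hgM hgF x hx hc.symm)

variable [Finite G]

theorem exists_maxSolv (H : Subgroup G) (hH : Group.IsSolvable H) :
    ∃ M : Subgroup G, MaxSolv M ∧ H ≤ M := by
  obtain ⟨M, hHM, hM, hmax⟩ :=
    Finite.exists_le_maximal (p := fun K : Subgroup G => Group.IsSolvable K) (a := H) hH
  exact ⟨M, ⟨hM, fun M' hlt h => hlt.not_ge (hmax h hlt.le)⟩, hHM⟩

theorem isSolvable_sylow_normalizer (S : Sylow 2 G) :
    Group.IsSolvable (Subgroup.normalizer ((S : Subgroup G) : Set G)) := by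
  haveI : Fact (Nat.Prime 2) := ⟨Nat.prime_two⟩
  set N := Subgroup.normalizer ((S : Subgroup G) : Set G)
  have hSN : (S : Subgroup G) ≤ N := Subgroup.le_normalizer
  haveI : ((S : Subgroup G).subgroupOf N).Normal := Subgroup.normal_in_normalizer
  haveI : Group.IsNilpotent ((S : Subgroup G).subgroupOf N) :=
    (S.2.of_equiv (Subgroup.subgroupOfEquivOfLe hSN).symm).isNilpotent
  haveI : Group.IsSolvable (N ⧸ (S : Subgroup G).subgroupOf N) := Cfsg.Agent.S0205.result (by
    rw [← Subgroup.index_eq_card]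
    refine Nat.not_even_iff_odd.1 fun he => S.not_dvd_index ?_
    exact dvd_trans he.two_dvd (Subgroup.relIndex_dvd_index_of_le hSN))
  exact Group.isSolvable_of_ker_le_range ((S : Subgroup G).subgroupOf N).subtype
    (QuotientGroup.mk' ((S : Subgroup G).subgroupOf N))
    (by rw [QuotientGroup.ker_mk', Subgroup.range_subtype])

/-- Burnside transfer followed by the odd order theorem. -/
theorem isSolvable_of_normalizer_le_centralizer (S : Sylow 2 G)
    (h : Subgroup.normalizer ((S : Subgroup G) : Set G) ≤ Subgroup.centralizer ((S : Subgroup G) : Set G)) :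
    Group.IsSolvable G := by
  haveI : Fact (Nat.Prime 2) := ⟨Nat.prime_two⟩
  have hc := MonoidHom.ker_transferSylow_isComplement' S h
  haveI : Group.IsSolvable (MonoidHom.transferSylow S h).ker := Cfsg.Agent.S0205.result (by
    refine Nat.not_even_iff_odd.1 fun he => S.not_dvd_index ?_
    rw [hc.index_eq_card]
    exact he.two_dvd)
  haveI : Group.IsNilpotent (S : Subgroup G) := S.2.isNilpotent
  exact Group.isSolvable_of_ker_le_range (MonoidHom.transferSylow S h).ker.subtype
    (MonoidHom.transferSylow S h) (by rw [Subgroup.range_subtype])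

theorem exists_maxSolv_sylow (hF : System F) (hns : ¬ Group.IsSolvable G) (S : Sylow 2 G) :
    ∃ M : Subgroup G, MaxSolv M ∧ Subgroup.normalizer ((S : Subgroup G) : Set G) ≤ M ∧ F M ≠ ⊥ := by
  obtain ⟨M, hM, hNM⟩ := exists_maxSolv _ (isSolvable_sylow_normalizer S)
  refine ⟨M, hM, hNM, (hF M hM).2.2.2.2.resolve_right fun hab => hns ?_⟩
  refine isSolvable_of_normalizer_le_centralizer S fun g hg => Subgroup.mem_centralizer_iff.2 fun s hs => ?_
  exact congrArg Subtype.val
    (hab.is_comm.comm (⟨s, hNM (Subgroup.le_normalizer hs)⟩ : M) ⟨g, hNM hg⟩)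

theorem eq_bot_of_normal_solvable (hF : System F) (hns : ¬ Group.IsSolvable G) (N : Subgroup G)
    [N.Normal] (hN : Group.IsSolvable N) : N = ⊥ := by
  classical
  by_contra hne
  obtain ⟨p, _, A, hAn, hAc, -, hA1, -⟩ := BGTypes.exists_normal_abelian_pGroup_le hne
  let S : Sylow 2 G := default
  obtain ⟨M, hM, -, hFM⟩ := exists_maxSolv_sylow hF hns S
  obtain ⟨hle, hnor, hfpf, -, -⟩ := hF M hM
  haveI := hM.1
  have hAM : A ≤ M := by
    by_contra hnle
    refine hM.2 (A ⊔ M) (lt_of_le_of_ne le_sup_right fun e => hnle (e ▸ le_sup_left)) ?_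
    haveI : Group.IsSolvable A := Group.isSolvable_of_comm fun a b => hAc.is_comm.comm a b
    have hcomap : (A.subgroupOf (A ⊔ M)).Normal := inferInstance
    haveI : Group.IsSolvable (A.subgroupOf (A ⊔ M)) :=
      Group.isSolvable_of_isSolvable_injective
        (f := (Subgroup.subgroupOfEquivOfLe (le_sup_left : A ≤ A ⊔ M)).toMonoidHom) (MulEquiv.injective _)
    haveI : Group.IsSolvable ((A ⊔ M : Subgroup G) ⧸ A.subgroupOf (A ⊔ M)) := by
      refine Group.isSolvable_of_surjective (f := (QuotientGroup.mk' (A.subgroupOf (A ⊔ M))).comp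
        (Subgroup.inclusion (le_sup_right : M ≤ A ⊔ M))) fun q => ?_
      obtain ⟨⟨x, hx⟩, rfl⟩ := QuotientGroup.mk'_surjective _ q
      obtain ⟨a, ha, m, hm, rfl⟩ : x ∈ (A : Set G) * (M : Set G) := by
        rw [← Subgroup.normal_mul]; exact hx
      refine ⟨⟨m, hm⟩, QuotientGroup.eq.2 (Subgroup.mem_subgroupOf.2 ?_)⟩
      show m⁻¹ * (a * m) ∈ A
      simpa [mul_assoc] using hAn.conj_mem a ha m⁻¹
    exact Group.isSolvable_of_ker_le_range (A.subgroupOf (A ⊔ M)).subtype
      (QuotientGroup.mk' (A.subgroupOf (A ⊔ M)))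
      (by rw [QuotientGroup.ker_mk', Subgroup.range_subtype])
  obtain ⟨a, ha, haF, ha1⟩ : ∃ a ∈ A, a ∈ F M ∧ a ≠ 1 := by
    by_contra! hcon
    obtain ⟨a, ha, ha1⟩ := (Subgroup.bot_or_exists_ne_one A).resolve_left hA1
    obtain ⟨x, hx, hx1⟩ := (Subgroup.bot_or_exists_ne_one (F M)).resolve_left hFM
    refine hx1 (hfpf a (hAM ha) (fun h => ha1 (hcon a ha h)) x hx ?_)
    have h1 : x * a * x⁻¹ * a⁻¹ ∈ A := mul_mem (hAn.conj_mem a ha x) (inv_mem ha)
    have h2 : x * a * x⁻¹ * a⁻¹ ∈ F M := by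
      have := (Subgroup.mem_normalizer_iff.1 (hnor (hAM ha)) x⁻¹).1 (inv_mem hx)
      rw [show x * a * x⁻¹ * a⁻¹ = x * (a * x⁻¹ * a⁻¹) by group]
      exact mul_mem hx this
    have h3 := hcon _ h1 h2
    rwa [mul_inv_eq_one, mul_inv_eq_iff_eq_mul] at h3
  have hAF : A ≤ F M := fun b hb => hF.cent hM haF ha1
    (Subgroup.mem_centralizer_singleton_iff.2 (congrArg Subtype.val (hAc.is_comm.comm ⟨b, hb⟩ ⟨a, ha⟩)))
  refine hns ?_
  have htop : M = ⊤ := by
    rw [Subgroup.eq_top_iff']
    intro g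
    exact hF.mem_of_conj hM haF ha1 (hAF (by simpa using hAn.conj_mem a ha g⁻¹))
  exact Group.isSolvable_of_surjective (f := M.subtype) fun g => ⟨⟨g, htop ▸ Subgroup.mem_top g⟩, rfl⟩

/-- What is needed afterwards of the subgroup attached to a Sylow normaliser. -/
structure Local (S : Sylow 2 G) (H : Subgroup G) : Prop where
  le : (S : Subgroup G) ≤ H
  le_norm : H ≤ Subgroup.normalizer ((S : Subgroup G) : Set G)
  normal : Subgroup.normalizer ((S : Subgroup G) : Set G) ≤ Subgroup.normalizer (H : Set G)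
  nil : Group.IsNilpotent H
  cent : ∀ x ∈ H, x ≠ 1 → Subgroup.centralizer ({x} : Set G) ≤ H

theorem sylow_inf_ne_bot (hF : System F) (hns : ¬ Group.IsSolvable G) (S : Sylow 2 G) {M : Subgroup G}
    (hM : MaxSolv M) (hNM : Subgroup.normalizer ((S : Subgroup G) : Set G) ≤ M) (hFM : F M ≠ ⊥) :
    (S : Subgroup G) ⊓ F M ≠ ⊥ := by
  haveI : Fact (Nat.Prime 2) := ⟨Nat.prime_two⟩
  intro hbot
  obtain ⟨-, hnor, hfpf, -, -⟩ := hF M hM
  have hSM : (S : Subgroup G) ≤ M := Subgroup.le_normalizer.trans hNM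
  have hfp : ∀ a ∈ (S : Subgroup G), a ≠ 1 → F M ⊓ Subgroup.centralizer ({a} : Set G) = ⊥ := by
    intro a ha ha1
    rw [Subgroup.eq_bot_iff_forall]
    rintro x ⟨hx, hxc⟩
    exact hfpf a (hSM ha) (fun h => ha1 (Subgroup.mem_bot.1 (hbot ▸ ⟨ha, h⟩))) x hx
      (Subgroup.mem_centralizer_singleton_iff.1 hxc)
  have hO : oddCore G = ⊥ := Cores.oddCore_eq_bot_iff.2 fun N hN hodd =>
    @eq_bot_of_normal_solvable _ _ _ _ hF hns N hN (Cfsg.Agent.S0205.result hodd)
  rcases Cores.isCyclic_or_quaternion_of_fpf S.2 hFM (hSM.trans hnor) hfp with hc | ⟨-, m, hm, ⟨e⟩⟩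
  · refine hns (isSolvable_of_normalizer_le_centralizer S ?_)
    haveI := hc
    refine IsCyclic.normalizer_le_centralizer (P := S) ?_ hc
    refine (Nat.minFac_eq_two_iff _).2 ?_
    by_contra hnd
    exact hns (Cfsg.Agent.S0205.result (Nat.not_even_iff_odd.1 fun he => hnd he.two_dvd))
  · have hm2 : 2 ≤ 2 ^ m := le_self_pow (by norm_num) (by omega)
    have hZ := Involutions.brauer_suzuki S hm2 e hO
    have hZbot := eq_bot_of_normal_solvable hF hns (Subgroup.center G)
      (Group.isSolvable_of_comm fun a b => Subtype.ext (Subgroup.mem_center_iff.1 b.2 a))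
    rw [hZbot, Subgroup.card_bot] at hZ
    omega

theorem exists_local (hF : System F) (hns : ¬ Group.IsSolvable G) (S : Sylow 2 G) :
    ∃ H : Subgroup G, Local S H := by
  classical
  haveI : Fact (Nat.Prime 2) := ⟨Nat.prime_two⟩
  obtain ⟨M, hM, hNM, hFM⟩ := exists_maxSolv_sylow hF hns S
  obtain ⟨hle, hnor, hfpf, -, -⟩ := hF M hM
  have hSM : (S : Subgroup G) ≤ M := Subgroup.le_normalizer.trans hNM
  -- the Sylow subgroup lies in `F M`
  obtain ⟨⟨s, hs⟩, hs1⟩ := Subgroup.ne_bot_iff_exists_ne_one.1 (sylow_inf_ne_bot hF hns S hM hNM hFM)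
  have hs1' : s ≠ 1 := fun e => hs1 (Subtype.ext e)
  have hSne : (S : Subgroup G) ≠ ⊥ := fun e => hs1' (Subgroup.mem_bot.1 (e ▸ hs.1))
  obtain ⟨z, hzS, hz, hzc⟩ := CIT.exists_central_involution S hSne
  have hzH : z ∈ F M := hF.cent hM hs.2 hs1'
    (Subgroup.mem_centralizer_singleton_iff.2 (hzc s hs.1).symm)
  have hSH : (S : Subgroup G) ≤ F M := fun a ha => hF.cent hM hzH (Involutions.ne_one hz)
    (Subgroup.mem_centralizer_singleton_iff.2 (hzc a ha))
  -- `F M` is proper in `M`
  obtain ⟨m, hm, hmF⟩ : ∃ m ∈ M, m ∉ F M := by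
    by_contra! hMF
    have hMF' : F M = M := le_antisymm hle hMF
    refine hns ?_
    haveI := hM.1
    by_cases htop : M = ⊤
    · exact Group.isSolvable_of_surjective (f := M.subtype)
        fun g => ⟨⟨g, htop ▸ Subgroup.mem_top g⟩, rfl⟩
    have hFC : IsFrobeniusComplement M := ⟨fun e => hFM (hMF'.trans e), htop, fun g hg => by
      have h := (hF M hM).2.2.2.1 g hg
      rwa [hMF'] at h⟩
    obtain ⟨N, -, hN, hcomp⟩ := Frobenius.exists_kernel hFC
    haveI : Group.IsSolvable N := Cfsg.Agent.S0205.result (by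
      refine Nat.not_even_iff_odd.1 fun he => S.not_dvd_index (dvd_trans ?_ (Subgroup.index_dvd_of_le hSM))
      rw [hcomp.index_eq_card]
      exact he.two_dvd)
    exact absurd (eq_bot_of_normal_solvable hF hns N inferInstance) fun e => htop (by
      have h1 := hcomp.card_mul
      rw [e, Subgroup.card_bot, one_mul] at h1
      exact Subgroup.eq_top_of_card_eq M h1)
  -- an element of prime order outside `F M`
  have hnil : Group.IsNilpotent (F M) := by
    haveI : ((F M).subgroupOf M).Normal :=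
      ⟨fun v hv g => Subgroup.mem_subgroupOf.2
        ((Subgroup.mem_normalizer_iff.1 (hnor g.2) _).1 (Subgroup.mem_subgroupOf.1 hv))⟩
    have hidx : ((F M).subgroupOf M).index ≠ 1 := fun e => hmF
      (Subgroup.mem_subgroupOf.1 (Subgroup.index_eq_one.1 e ▸ Subgroup.mem_top (⟨m, hm⟩ : M)))
    obtain ⟨p, hp, hpd⟩ := Nat.exists_prime_and_dvd hidx
    haveI : Fact p.Prime := ⟨hp⟩
    let P : Sylow p M := default
    have hPF : ∀ a ∈ (P : Subgroup M), (a : G) ∈ F M → a = 1 := by
      intro a ha haF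
      by_contra ha1
      haveI : Nontrivial (P : Subgroup M) :=
        ⟨⟨⟨a, ha⟩, 1, fun e => ha1 (congrArg Subtype.val e)⟩⟩
      haveI := P.2.center_nontrivial
      obtain ⟨w, hw⟩ := exists_ne (1 : Subgroup.center (P : Subgroup M))
      have hwc : ∀ b ∈ (P : Subgroup M), (b : G) * ((w : (P : Subgroup M)) : M) = ((w : (P : Subgroup M)) : M) * (b : G) :=
        fun b hb => congrArg (fun q : (P : Subgroup M) => ((q : M) : G)) (Subgroup.mem_center_iff.1 w.2 ⟨b, hb⟩)
      have hwF : (((w : (P : Subgroup M)) : M) : G) ∈ F M := hF.cent hM haF (fun e => ha1 (Subtype.ext e))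
        (Subgroup.mem_centralizer_singleton_iff.2 (hwc a ha).symm)
      have hPle : (P : Subgroup M) ≤ (F M).subgroupOf M := fun b hb => Subgroup.mem_subgroupOf.2
        (hF.cent hM hwF (fun e => hw (Subtype.ext (Subtype.ext (Subtype.ext e))))
          (Subgroup.mem_centralizer_singleton_iff.2 (hwc b hb)))
      exact P.not_dvd_index (hpd.trans (Subgroup.index_dvd_of_le hPle))
    obtain ⟨q, hq⟩ := exists_prime_orderOf_dvd_card' (G := (P : Subgroup M)) p
      (P.dvd_card_of_dvd_card (hpd.trans ((F M).subgroupOf M).index_dvd_card))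
    have hq' : orderOf ((q : M) : G) = p := by rw [Subgroup.orderOf_coe, Subgroup.orderOf_coe, hq]
    have hqF : ((q : M) : G) ∉ F M := fun h => by
      rw [show ((q : M) : G) = 1 from congrArg Subtype.val (hPF _ q.2 h), orderOf_one] at hq'
      exact hp.ne_one hq'.symm
    exact NormalPComplement.isNilpotent_of_fpf_element (hnor (q : M).2) hp hq'
      fun n hn hc => hfpf _ (q : M).2 hqF n hn hc.symm
  -- hence `S` is normal in `M`
  have hnorm : M ≤ Subgroup.normalizer ((S : Subgroup G) : Set G) := by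
    intro g hg
    haveI := hnil
    have key : ∀ T : Sylow 2 G, (T : Subgroup G) ≤ F M → T = S := fun T hT => by
      have h1 : (T.subtype hT) = (S.subtype hSH) := by
        haveI : Subsingleton (Sylow 2 (F M)) :=
          (Sylow.unique_of_normal (S.subtype hSH) inferInstance).instSubsingleton
        exact Subsingleton.elim _ _
      exact Sylow.subtype_injective h1
    refine (CIT.smul_eq_iff_mem_normalizer S).1 (key (g • S) ?_)
    rw [Sylow.coe_subgroup_smul]
    rintro _ ⟨a, ha, rfl⟩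
    exact (Subgroup.mem_normalizer_iff.1 (hnor hg) a).1 (hSH ha)
  exact ⟨F M, hSH, hle.trans hnorm, hNM.trans hnor, hnil, fun x hx hx1 => hF.cent hM hx hx1⟩

end CfsgLib.FrobSystem
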