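import Cfsg.Agent.Lib.CIT.Zassenhaus
import Cfsg.Agent.Lib.SuzukiIdent.Zassenhaus
import Cfsg.Agent.Lib.OrderDegrees.SL2Module

/-!
A simple CIT group with Sylow 2-subgroups meeting trivially is `SL₂` over a field of even order or a
Suzuki group.
-/

set_option autoImplicit false
set_option linter.style.haveILetI false

open MulAction Cfsg

namespace CfsgLib.FrobSystem

open CfsgLib.CIT CfsgLib.SharplyEven.SimpleZassenhaus

universe u

theorem regular {G : Type u} [Group G] [Finite G] {M H : Subgroup G} {z : G} (h : TIConfig M H z)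
    (hm : 1 < TIConfig.m M H) : ∀ y w : G ⧸ M, y ≠ TIConfig.pt M → w ≠ TIConfig.pt M →
    ∃! u : H, (u : G) • y = w := by
  classical
  letI : Fintype (G ⧸ M) := Fintype.ofFinite _
  intro y w hy hw
  obtain ⟨t, -, htM, hty, -, -⟩ := h.exists_swap hy
  let f : H → {c : G ⧸ M // c ≠ TIConfig.pt M} := fun a => ⟨(a : G) • y, fun e => hy (by
    rw [smul_eq_iff_eq_inv_smul, (TIConfig.smul_pt_eq _).2 (M.inv_mem (h.le a.2))] at e
    exact e)⟩
  have hinj : Function.Injective f := by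
    intro a b e
    have e' : (a : G) • y = (b : G) • y := congrArg Subtype.val e
    have h1 : ((b : G)⁻¹ * a) • y = y := by rw [mul_smul, e', inv_smul_smul]
    have h2 : (b : G)⁻¹ * a ∈ H ⊓ M.map (MulAut.conj t).toMonoidHom :=
      ⟨H.mul_mem (H.inv_mem b.2) a.2, (TIConfig.smul_smul_pt_eq t _).1 (by rwa [hty])⟩
    rw [h.disj t htM, Subgroup.mem_bot, inv_mul_eq_one] at h2
    exact Subtype.ext h2.symm
  have hc : Nat.card {c : G ⧸ M // c ≠ TIConfig.pt M} = Nat.card H := by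
    rw [Nat.card_eq_fintype_card, Fintype.card_subtype_compl, Fintype.card_subtype_eq,
      ← Nat.card_eq_fintype_card, ← Subgroup.index_eq_card, h.index_eq hm, Nat.add_sub_cancel]
  obtain ⟨u, hu⟩ := (hinj.bijective_of_nat_card_le hc.le).2 ⟨w, hw⟩
  exact ⟨u, congrArg Subtype.val hu, fun v hv => hinj (hu.symm ▸ Subtype.ext hv)⟩

theorem sl_two_or_suzuki {G : Type u} [Group G] [Finite G] [IsSimpleGroup G] (hcit : IsCIT G)
    (hna : ∃ a b : G, a * b ≠ b * a) (h2 : 2 ∣ Nat.card G) (hTI : TISylow G) :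
    (∃ (K : Type) (_ : Field K) (_ : Fintype K), (∃ n : ℕ, 2 ≤ n ∧ Fintype.card K = 2 ^ n) ∧
      Nonempty (G ≃* Matrix.SpecialLinearGroup (Fin 2) K)) ∨ Cfsg.Lie.IsoSuzuki G := by
  classical
  haveI : Fact (Nat.Prime 2) := ⟨Nat.prime_two⟩
  obtain ⟨S⟩ : Nonempty (Sylow 2 G) := inferInstance
  obtain ⟨z, -, -, hcfg⟩ := hTI.tiConfig hcit (pCore_eq_bot_of_simple hna) h2 S
  set M := Subgroup.normalizer ((S : Subgroup G) : Set G) with hM
  have hm : 1 < TIConfig.m M (S : Subgroup G) := by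
    by_contra hm'
    have hm1 := TIConfig.m_pos (M := M) (H := (S : Subgroup G))
    obtain ⟨N, hN, hodd, hne⟩ := hTI.exists_complement hcit (pCore_eq_bot_of_simple hna) h2 S (le_antisymm (not_lt.1 hm') hm1)
    rw [hN.eq_bot_or_eq_top.resolve_left hne, Subgroup.card_top] at hodd
    exact Nat.not_even_iff_odd.2 hodd (even_iff_two_dvd.2 h2)
  letI : Fintype (G ⧸ M) := Fintype.ofFinite _
  have hZ : IsZassenhausGroup G (G ⧸ M) := hcfg.zassenhaus hm
  obtain ⟨o, ho⟩ := hcfg.exists_ne_pt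
  have hstab : ∀ g : G, g ∈ stabilizer G (TIConfig.pt M) ↔ g ∈ M := fun g => TIConfig.smul_pt_eq g
  have hSle : (S : Subgroup G) ≤ stabilizer G (TIConfig.pt M) := fun g hg => (hstab g).2 (hcfg.le hg)
  have hSn : ∀ g ∈ stabilizer G (TIConfig.pt M), ∀ u ∈ (S : Subgroup G), g * u * g⁻¹ ∈ (S : Subgroup G) :=
    fun g hg u hu => (Subgroup.mem_normalizer_iff.1 ((hstab g).1 hg) u).1 hu
  have hreg := regular hcfg hm
  by_cases hna' : ∃ u v : (S : Subgroup G), u * v ≠ v * u
  · exact Or.inr (CfsgLib.SuzukiIdent.isoSuzuki_of_zassenhaus hZ ho.symm _ hSle hSn hreg S.2 hna')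
  push Not at hna'
  left
  have hab : IsMulCommutative (S : Subgroup G) := ⟨⟨hna'⟩⟩
  have hSn' : ((S : Subgroup G).subgroupOf (stabilizer G (TIConfig.pt M))).Normal :=
    ⟨fun v hv g => Subgroup.mem_subgroupOf.2 (hSn g g.2 v (Subgroup.mem_subgroupOf.1 hv))⟩
  obtain ⟨a, ha⟩ := IsPGroup.iff_card.1 S.2
  have ha0 : a ≠ 0 := by
    rintro rfl
    exact sylow_ne_bot h2 S (Subgroup.eq_bot_of_card_eq _ (by rw [ha, pow_zero]))
  have hΩ : Fintype.card (G ⧸ M) = 2 ^ a + 1 := by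
    rw [← Nat.card_eq_fintype_card, ← Subgroup.index_eq_card, hcfg.index_eq hm, ha]
  have hev : Even (2 ^ a) := Nat.even_pow.2 ⟨even_two, ha0⟩
  have h3 : 3 ≤ Fintype.card (G ⧸ M) := CfsgLib.RealChar.Zassenhaus.three_le_card hZ
  rcases CfsgLib.AltGroups.zassenhaus_abelian_kernel hZ ho _ hSle hSn' hab hreg with
    hd | ⟨-, K, _, _, hchar, hK, -⟩
  swap
  · exfalso
    rw [hΩ] at hK
    exact hchar (FiniteField.even_card_iff_char_two.2 (Nat.even_iff.1 (by
      rw [show Fintype.card K = 2 ^ a by omega]; exact hev)))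
  haveI := hZ.1
  have hodd : Odd (Fintype.card (G ⧸ M)) := hΩ ▸ hev.add_one
  obtain ⟨K, iK, jK, hK, ⟨iso⟩⟩ := CfsgLib.AltGroups.sharply_three_transitive_odd_degree (G := G)
    (Ω := G ⧸ M) (fun p q r p' q' r' h1 h2 h3' h4 h5 h6 => by
      obtain ⟨h3t, hfix⟩ := CfsgLib.AltGroups.sharply_three_transitive_of_card hZ ho hd
      have emb : ∀ x y w : G ⧸ M, x ≠ y → y ≠ w → x ≠ w → Function.Injective ![x, y, w] := by
        intro x y w hxy hyw hxw i j hij
        fin_cases i <;> fin_cases j <;> simp_all [eq_comm]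
      haveI := h3t
      obtain ⟨g, hg⟩ := MulAction.exists_smul_eq G (α := Fin 3 ↪ G ⧸ M) ⟨![p, q, r], emb p q r h1 h2 h3'⟩
        ⟨![p', q', r'], emb p' q' r' h4 h5 h6⟩
      refine ⟨g, ⟨DFunLike.congr_fun hg 0, DFunLike.congr_fun hg 1, DFunLike.congr_fun hg 2⟩, fun k hk => ?_⟩
      refine (inv_mul_eq_one.1 (hZ.2.2.1 (g⁻¹ * k) p q r h1 h2 h3' ?_ ?_ ?_)).symm
      · rw [mul_smul, hk.1, inv_smul_eq_iff]; exact (DFunLike.congr_fun hg 0).symm
      · rw [mul_smul, hk.2.1, inv_smul_eq_iff]; exact (DFunLike.congr_fun hg 1).symm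
      · rw [mul_smul, hk.2.2, inv_smul_eq_iff]; exact (DFunLike.congr_fun hg 2).symm) hodd h3
  have hKc : Fintype.card K = 2 ^ a := by rw [hΩ] at hK; omega
  haveI : CharP K 2 := ringChar.of_eq (FiniteField.even_card_iff_char_two.2
    (Nat.even_iff.1 (hKc ▸ hev)))
  let e : G ≃* Matrix.SpecialLinearGroup (Fin 2) K :=
    (iso.trans (MulEquiv.ofBijective _ (toPGL_bijective_of_even (hKc ▸ hev))).symm).trans
      (OrderDegrees.psl2EquivSL2 K)
  refine ⟨K, iK, jK, ⟨a, ?_, hKc⟩, ⟨e⟩⟩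
  by_contra ha2
  have hS2 : Nat.card (S : Subgroup G) = 2 := by rw [ha, show a = 1 by omega, pow_one]
  have hone : Nat.card {v : G // orderOf v = 2 ∧ v ∈ M} ≤ 1 := by
    refine Finite.card_le_one_iff_subsingleton.2 ⟨fun v w => ?_⟩
    have hv := hcfg.invol_mem v.2.1 v.2.2
    have hw := hcfg.invol_mem w.2.1 w.2.2
    obtain ⟨x, y, -, hall⟩ := Nat.card_eq_two_iff.1 hS2
    have key : ∀ v : (S : Subgroup G), (v : G) ≠ 1 → ∀ w : (S : Subgroup G), (w : G) ≠ 1 → v = w := by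
      intro v hv w hw
      have hsub : ∀ c : (S : Subgroup G), c = x ∨ c = y := fun c => by
        have := hall ▸ Set.mem_univ c
        simpa using this
      rcases hsub 1 with h | h <;> rcases hsub v with h' | h' <;> rcases hsub w with h'' | h'' <;>
        first
        | exact h'.trans h''.symm
        | exact absurd (congrArg Subtype.val (h'.trans h.symm)) hv
        | exact absurd (congrArg Subtype.val (h''.trans h.symm)) hw
    exact Subtype.ext (congrArg (fun c : (S : Subgroup G) => (c : G)) (key ⟨v, hv.2⟩ (Involutions.ne_one v.2.1) ⟨w, hw.2⟩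
      (Involutions.ne_one w.2.1)))
  rw [hcfg.card_involutions.2] at hone
  omega

end CfsgLib.FrobSystem
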